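import Groth.Agent.L27.ExtZero.Restr
import Groth.Agent.L27.ExtZero.Cont
import Groth.Agent.L27.EtSite.Pull
import Groth.Agent.L27.LimCoh.HMaps
import Mathlib.CategoryTheory.Abelian.RightDerived
import Mathlib.CategoryTheory.Preadditive.Injective.Preserves

/-! # Direct images of injective sheaves -/

universe u

open CategoryTheory CategoryTheory.Limits AlgebraicGeometry Opposite

set_option backward.isDefEq.respectTransparency.types false
set_option linter.style.haveILetI false

namespace Groth.L27.InjPush

variable {X Y Z : Scheme.{u}}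

theorem injective_push (f : X ⟶ Y) (I : EtCoh.Ab X) [Injective I] : Injective ((EtCoh.push f).obj I) := by
  haveI := EtSite.preservesFiniteLimits_pull f
  exact Injective.injective_of_adjoint (EtCoh.pullPushAdj f) I

theorem subsingleton_H_pull_injective (V : Y.Etale) (J : EtCoh.Ab Y) [Injective J] (q : ℕ) (hq : 1 ≤ q) :
    Subsingleton (EtCoh.H V.left ((EtCoh.pull V.hom).obj J) q) := by
  haveI hV : AlgebraicGeometry.Etale V.hom := V.prop
  haveI : EtShriek.JCont V.hom := ExtZero.jCont V.hom
  haveI : Injective ((EtCoh.pull V.hom).obj J) := ExtZero.injective_pull V.hom J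
  obtain ⟨n, rfl⟩ := Nat.exists_eq_succ_of_ne_zero (by omega : q ≠ 0)
  exact ⟨fun a b => (LimCoh.eq_zero_of_injective _ n a).trans (LimCoh.eq_zero_of_injective _ n b).symm⟩

theorem isZero_Rpush_injective (g : Y ⟶ Z) (J : EtCoh.Ab Y) [Injective J] (q : ℕ) (hq : 1 ≤ q) :
    IsZero ((EtCoh.Rpush g q).obj J) := by
  obtain ⟨n, rfl⟩ := Nat.exists_eq_succ_of_ne_zero (by omega : q ≠ 0)
  exact Functor.isZero_rightDerived_obj_injective_succ _ n J

end Groth.L27.InjPush
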