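import Groth.Agent.L27.ExtZero.Recollement
import Groth.Agent.L27.InjPush.Basic

/-! # Sections with supports of injective sheaves -/

universe u

open CategoryTheory CategoryTheory.Limits AlgebraicGeometry Opposite

set_option backward.isDefEq.respectTransparency.types false
set_option linter.style.haveILetI false
set_option linter.unusedSectionVars false
set_option linter.unusedVariables false

namespace Groth.L27.InjPush

variable {U X Z : Scheme.{u}} (j : U ⟶ X) [IsOpenImmersion j] [AlgebraicGeometry.Etale j] [EtShriek.JCont j]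
  (i : Z ⟶ X) [IsClosedImmersion i] (hij : Set.range j.base = (Set.range i.base)ᶜ)

include hij in
theorem isZero_pull_push (B : EtCoh.Ab Z) : IsZero ((EtCoh.pull j).obj ((EtCoh.push i).obj B)) := by
  refine (EtSite.isZero_iff_stalks _).2 fun Ω _ _ v => IsZero.of_iso ?_ ((EtSite.stalkPullIso j v).app _)
  refine EtSite.isZero_stalk_push i B (v ≫ j) ?_
  have h : (v ≫ j).base default ∈ Set.range j.base := ⟨v.base default, rfl⟩
  rw [hij] at h
  exact h

theorem isZero_pull_kernel (I : EtCoh.Ab X) :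
    IsZero ((EtCoh.pull j).obj (kernel ((EtCoh.pullPushAdj j).unit.app I))) := by
  haveI := (ExtZero.isIso_counit_of_mono j).1
  haveI : IsIso ((EtCoh.pull j).map ((EtCoh.pullPushAdj j).unit.app I)) := by
    haveI : IsIso ((EtCoh.pull j).map ((EtCoh.pullPushAdj j).unit.app I) ≫
        (EtCoh.pullPushAdj j).counit.app ((EtCoh.pull j).obj I)) := by
      rw [(EtCoh.pullPushAdj j).left_triangle_components I]; exact IsIso.id _
    exact IsIso.of_isIso_comp_right _ ((EtCoh.pullPushAdj j).counit.app ((EtCoh.pull j).obj I))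
  haveI := EtSite.preservesFiniteLimits_pull j
  have h0 : (EtCoh.pull j).map (kernel.ι ((EtCoh.pullPushAdj j).unit.app I)) = 0 := by
    rw [← cancel_mono ((EtCoh.pull j).map ((EtCoh.pullPushAdj j).unit.app I)), zero_comp, ← Functor.map_comp,
      kernel.condition, Functor.map_zero]
  haveI := EtSite.mono_pull_map j (kernel.ι ((EtCoh.pullPushAdj j).unit.app I))
  exact IsZero.of_mono_eq_zero _ h0

include hij in
theorem isIso_unit_kernel (I : EtCoh.Ab X) :
    IsIso ((EtCoh.pullPushAdj i).unit.app (kernel ((EtCoh.pullPushAdj j).unit.app I))) := by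
  set K := kernel ((EtCoh.pullPushAdj j).unit.app I)
  have key : ∀ (Ω : Type u) [Field Ω] [IsSepClosed Ω] (ξ : Spec (CommRingCat.of Ω) ⟶ X),
      IsIso ((EtCoh.stalk ξ).map ((EtCoh.pullPushAdj i).unit.app K)) := by
    intro Ω _ _ ξ
    by_cases hx : ξ.base default ∈ Set.range j.base
    · have hr : Set.range ξ ⊆ Set.range j := by
        rintro - ⟨z, rfl⟩; rwa [Subsingleton.elim z default]
      obtain ⟨v, rfl⟩ : ∃ v, v ≫ j = ξ := ⟨IsOpenImmersion.lift j ξ hr, IsOpenImmersion.lift_fac j ξ hr⟩
      have h1 : IsZero ((EtCoh.stalk (v ≫ j)).obj K) :=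
        IsZero.of_iso ((EtCoh.stalk v).map_isZero (isZero_pull_kernel j I)) ((EtSite.stalkPullIso j v).app K).symm
      have h2 : IsZero ((EtCoh.stalk (v ≫ j)).obj ((EtCoh.push i).obj ((EtCoh.pull i).obj K))) :=
        IsZero.of_iso ((EtCoh.stalk v).map_isZero (isZero_pull_push j i hij _)) ((EtSite.stalkPullIso j v).app _).symm
      exact ⟨⟨0, h1.eq_of_src _ _, h2.eq_of_src _ _⟩⟩
    · exact ExtZero.isIso_stalk_unit_outside j i hij K ξ hx
  haveI : Mono ((EtCoh.pullPushAdj i).unit.app K) := (EtSite.mono_iff_stalks _).2 fun Ω _ _ ξ =>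
    haveI := key Ω ξ
    (ConcreteCategory.bijective_of_isIso ((EtCoh.stalk ξ).map ((EtCoh.pullPushAdj i).unit.app K))).1
  haveI : Epi ((EtCoh.pullPushAdj i).unit.app K) := (EtSite.epi_iff_stalks _).2 fun Ω _ _ ξ =>
    haveI := key Ω ξ
    (ConcreteCategory.bijective_of_isIso ((EtCoh.stalk ξ).map ((EtCoh.pullPushAdj i).unit.app K))).2
  exact isIso_of_mono_of_epi _

include hij in
theorem injective_pull_kernel (I : EtCoh.Ab X) [Injective I] :
    Injective ((EtCoh.pull i).obj (kernel ((EtCoh.pullPushAdj j).unit.app I))) := ⟨fun {A B} f m _ => by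
  haveI := isIso_unit_kernel j i hij I
  haveI : ∀ G, IsIso ((EtCoh.pullPushAdj i).counit.app G) := fun G =>
    EtSite.isIso_counit i (EtSite.propA_of_isIntegralHom i) G
  haveI : Mono ((EtCoh.push i).map m) := by
    haveI : PreservesLimitsOfSize.{0, 0} (EtCoh.push i) := (EtCoh.pullPushAdj i).rightAdjoint_preservesLimits
    infer_instance
  let f' : (EtCoh.push i).obj A ⟶ (kernel ((EtCoh.pullPushAdj j).unit.app I)) := (EtCoh.push i).map f ≫ inv ((EtCoh.pullPushAdj i).unit.app (kernel ((EtCoh.pullPushAdj j).unit.app I)))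
  obtain ⟨g, hg⟩ := Injective.factors (f' ≫ kernel.ι _) ((EtCoh.push i).map m)
  have hgu : g ≫ (EtCoh.pullPushAdj j).unit.app I = 0 :=
    ((EtCoh.pullPushAdj j).homEquiv _ _).symm.injective ((isZero_pull_push j i hij B).eq_of_src _ _)
  have hl : (EtCoh.push i).map m ≫ kernel.lift _ g hgu = f' := by
    rw [← cancel_mono (kernel.ι ((EtCoh.pullPushAdj j).unit.app I)), Category.assoc, kernel.lift_ι]
    exact hg
  refine ⟨inv ((EtCoh.pullPushAdj i).counit.app B) ≫ (EtCoh.pull i).map (kernel.lift _ g hgu), ?_⟩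
  have hn : m ≫ inv ((EtCoh.pullPushAdj i).counit.app B) =
      inv ((EtCoh.pullPushAdj i).counit.app A) ≫ (EtCoh.pull i).map ((EtCoh.push i).map m) := by
    rw [IsIso.eq_inv_comp, ← Category.assoc, IsIso.comp_inv_eq]
    exact ((EtCoh.pullPushAdj i).counit.naturality m).symm
  rw [← Category.assoc, hn, Category.assoc, ← Functor.map_comp, hl, IsIso.inv_comp_eq, Functor.map_comp]
  have ht := (EtCoh.pullPushAdj i).left_triangle_components (kernel ((EtCoh.pullPushAdj j).unit.app I))
  haveI : IsIso ((EtCoh.pull i).map ((EtCoh.pullPushAdj i).unit.app (kernel ((EtCoh.pullPushAdj j).unit.app I)))) := inferInstance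
  rw [← cancel_mono ((EtCoh.pull i).map ((EtCoh.pullPushAdj i).unit.app (kernel ((EtCoh.pullPushAdj j).unit.app I)))), Category.assoc, ← Functor.map_comp,
    IsIso.inv_hom_id, CategoryTheory.Functor.map_id, Category.comp_id]
  rw [← cancel_mono ((EtCoh.pullPushAdj i).counit.app ((EtCoh.pull i).obj (kernel ((EtCoh.pullPushAdj j).unit.app I)))), Category.assoc, Category.assoc, ht]
  exact ((EtCoh.pullPushAdj i).counit.naturality f).trans
    (congrArg ((EtCoh.pullPushAdj i).counit.app A ≫ ·) (Category.comp_id f).symm)⟩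

end Groth.L27.InjPush
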